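import Cfsg.Agent.Lib.Sporadic.J3.Defs
import Cfsg.Agent.Lib.Sporadic.J3Invol.Data
import Mathlib.GroupTheory.SpecificGroups.Alternating

/-! Kernel checks on the tables of the involution centraliser of J3. -/

set_option autoImplicit false
set_option maxRecDepth 100000

namespace CfsgLib.J3Invol

open CfsgLib.J3

/-- entry of a list of codes -/
def cd (C : List M2) (k : ℕ) : M2 := C.getD k one
/-- entry of a list of indices -/
def ix (l : List ℕ) (k : ℕ) : ℕ := l.getD k 0
/-- entry of a table of indices -/
def ix2 (l : List (List ℕ)) (i j : ℕ) : ℕ := (l.getD i []).getD j 0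

/-- check of a table of group elements -/
noncomputable def chkTab (C : List M2) (T3 : List (ℕ × ℕ × ℕ)) (G : List ℕ) (E : List (List ℕ)) (P : List (ℕ × ℕ)) : Bool :=
  Nat.blt 0 C.length && beq (cd C 0) one &&
  allFrom 0 C.length (fun k => tripleOk (T3.getD k (0, 0, 0)) && okb (cd C k) &&
    beq (cd C k) (triple (T3.getD k (0, 0, 0)))) &&
  allFrom 0 G.length (fun j => Nat.blt (ix G j) C.length && allFrom 0 C.length (fun k =>
    Nat.blt (ix2 E j k) C.length && beq (mul (cd C (ix G j)) (cd C k)) (cd C (ix2 E j k)))) &&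
  allFrom 0 C.length (fun k => Nat.beq k 0 ||
    (Nat.blt (P.getD k (0, 0)).2 k && Nat.blt (P.getD k (0, 0)).1 G.length &&
      Nat.beq (ix2 E (P.getD k (0, 0)).1 (P.getD k (0, 0)).2) k))

theorem runQ : chkTab qC qT qG qE qP = true := by decide +kernel
theorem runH : chkTab hC hT hG hE hP = true := by decide +kernel
theorem runS : chkTab sC sT sG sE sP = true := by decide +kernel
theorem nodupQ : (qC.map key).Nodup := by decide +kernel
theorem nodupH : (hC.map key).Nodup := by decide +kernel
theorem nodupS : (sC.map key).Nodup := by decide +kernel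
theorem lengths : qC.length = 32 ∧ hC.length = 60 ∧ sC.length = 128 ∧ qG.length = 4 ∧ hG.length = 2 ∧ sG.length = 6 ∧
    tq < 32 ∧ tq ≠ 0 := by decide +kernel

/-- the code of the involution -/
def tC : M2 := cd qC tq

/-- product of table positions -/
def qm (i j : ℕ) : ℕ := ix2 qM i j

theorem runQM : allFrom 0 32 (fun i => allFrom 0 32 fun j =>
    Nat.blt (qm i j) 32 && beq (mul (cd qC i) (cd qC j)) (cd qC (qm i j))) = true := by decide +kernel

theorem runQfacts : allFrom 0 32 (fun i =>
    (Nat.beq (qm i i) 0 || Nat.beq (qm i i) tq) &&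
    Nat.beq (qm i tq) (qm tq i) &&
    (Nat.beq i 0 || Nat.beq i tq || (Nat.blt (ix qNC i) 32 && !(Nat.beq (qm i (ix qNC i)) (qm (ix qNC i) i)))) &&
    allFrom 0 32 fun j => Nat.beq (qm i j) (qm j i) || Nat.beq (qm i j) (qm tq (qm j i))) = true := by
  decide +kernel

theorem runQelem : allFrom 0 32 (fun i => Nat.beq i 0 || !(Nat.beq (qm i i) 0) ||
    allFrom 0 32 fun j => Nat.beq j 0 || Nat.beq j i || !(Nat.beq (qm j j) 0) || !(Nat.beq (qm i j) (qm j i)) ||
      allFrom 0 32 fun k => Nat.beq k 0 || Nat.beq k i || Nat.beq k j || !(Nat.beq (qm k k) 0) ||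
        !(Nat.beq (qm i k) (qm k i)) || !(Nat.beq (qm j k) (qm k j)) || Nat.beq k (qm i j)) = true := by
  decide +kernel

theorem runCommQ : allFrom 0 4 (fun j => beq (mul (cd qC (ix qG j)) tC) (mul tC (cd qC (ix qG j)))) = true := by
  decide +kernel

theorem runCommH : allFrom 0 2 (fun j => beq (mul (cd hC (ix hG j)) tC) (mul tC (cd hC (ix hG j)))) = true := by
  decide +kernel

theorem runCommS : allFrom 0 6 (fun j => beq (mul (cd sC (ix sG j)) tC) (mul tC (cd sC (ix sG j)))) = true := by
  decide +kernel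

theorem runNorm : allFrom 0 2 (fun j => allFrom 0 4 fun l => Nat.blt (ix2 nQ j l) 32 &&
    beq (mul (cd hC (ix hG j)) (cd qC (ix qG l))) (mul (cd qC (ix2 nQ j l)) (cd hC (ix hG j)))) = true := by
  decide +kernel

/-- the three scalar codes -/
def zC : List M2 := [one, omCode, mul omCode omCode]

theorem nodupZ : (zC.map key).Nodup ∧ allFrom 0 3 (fun z => okb (cd zC z)) = true := by decide +kernel

theorem runMeet : allFrom 0 3 (fun z => allFrom 0 32 fun i => Nat.beq i 0 ||
    allFrom 0 60 fun k => !(beq (mul (cd zC z) (cd qC i)) (cd hC k))) = true := by decide +kernel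

/-- image of a position in the alternating group -/
def gp (k : ℕ) : Equiv.Perm (Fin 5) :=
  (hW.getD k []).foldr (fun g acc => (if g = 0 then pA else pB) * acc) 1

/-- image of a generator -/
def pgen (j : ℕ) : Equiv.Perm (Fin 5) := if j = 0 then pA else pB

theorem gp_zero : gp 0 = 1 := by decide +kernel

theorem gp_edge : ∀ j : Fin 2, ∀ k : Fin 60, ∀ x : Fin 5,
    gp (ix2 hE j.val k.val) x = (pgen j.val * gp k.val) x := by decide +kernel

theorem gp_nodup : ((List.range 60).map fun k => (List.finRange 5).map fun x => ((gp k) x).val).Nodup := by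
  decide +kernel

theorem sign_pgen : Equiv.Perm.sign pA = 1 ∧ Equiv.Perm.sign pB = 1 := by decide +kernel

theorem runSW : allFrom 0 128 (fun k => Nat.beq k 0 ||
    (bif Nat.beq (sW.getD k (one, (0, 0, 0), 0)).2.2 0 then
      tripleOk (sW.getD k (one, (0, 0, 0), 0)).2.1 &&
        beq (sW.getD k (one, (0, 0, 0), 0)).1 (triple (sW.getD k (one, (0, 0, 0), 0)).2.1) &&
        beq (mul (sW.getD k (one, (0, 0, 0), 0)).1 tC) (mul (cd sC k) (sW.getD k (one, (0, 0, 0), 0)).1)
    else
      Nat.blt (sW.getD k (one, (0, 0, 0), 0)).2.2 128 &&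
        beq (mul (cd sC k) (cd sC k)) (cd sC (sW.getD k (one, (0, 0, 0), 0)).2.2))) = true := by
  decide +kernel

/-- the first generator on cosets -/
def pX (i : ℕ) : ℕ := (tEX.get i).1
/-- the second generator on cosets -/
def pY (i : ℕ) : ℕ := (tEY.get i).1
/-- the involution on cosets -/
def sig (i : ℕ) : ℕ := pY (pX (pY (pX (pY (pX i)))))

theorem tWord : beq tC (mul gY (mul gX (mul gY (mul gX (mul gY gX))))) = true := by decide +kernel

/-- list membership -/
def memB (i : ℕ) (l : List ℕ) : Bool := l.any (Nat.beq i)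

theorem memB_eq {i : ℕ} {l : List ℕ} (h : memB i l = true) : i ∈ l := by
  obtain ⟨x, hx, e⟩ := List.any_eq_true.1 h
  rwa [Nat.eq_of_beq_eq_true e]

theorem runFix0 : allFrom 0 3078 (fun i => !(Nat.beq (sig i) i) || memB i oA || memB i oB) = true := by decide +kernel
theorem runFix1 : allFrom 3078 3078 (fun i => !(Nat.beq (sig i) i) || memB i oA || memB i oB) = true := by decide +kernel

/-- code of an orbit generator -/
def og (g : ℕ) : M2 := bif Nat.blt g 4 then cd qC (ix qG g) else cd hC (ix hG (g - 4))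

/-- check of an orbit tree -/
noncomputable def chkOrb (O : List ℕ) (P : List (ℕ × ℕ × ℕ × ℕ)) : Bool :=
  allFrom 0 O.length fun k => Nat.blt (ix O k) 6156 && (Nat.beq k 0 ||
    (match P.getD k (0, 0, 0, 0) with
      | (g, p, a, b) => Nat.blt p k && Nat.blt g 6 && Nat.blt a 272 && Nat.blt b 90 &&
          beq (mul (og g) (T (ix O p))) (mul (mul (T (ix O k)) (U a)) (V b))))

theorem runOA : chkOrb oA oAP = true := by decide +kernel
theorem runOB : chkOrb oB oBP = true := by decide +kernel
theorem orb_facts : oA.length = 16 ∧ oB.length = 60 ∧ (oA ++ oB).Nodup := by decide +kernel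

/-- the base point -/
def i0 : ℕ := ix oA 0
/-- the involution seen from the base point -/
def vC : M2 := mul (U kv.1) (V kv.2)

theorem runV0 : (Nat.blt kv.1 272 && Nat.blt kv.2 90 && beq (mul tC (T i0)) (mul (T i0) vC)) = true := by
  decide +kernel

theorem runCl : allFrom 0 68 (fun m =>
    match clW.getD m (one, (0, 0)) with
    | (w, (a, b)) => okb w && Nat.blt a 272 && Nat.blt b 90 &&
        beq (mul (mul (U a) (V b)) vC) (mul w (mul (U a) (V b)))) = true := by decide +kernel

theorem clW_facts : (clW.map fun x => key x.1).Nodup ∧ clW.length = 68 := by decide +kernel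

end CfsgLib.J3Invol
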