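import Cfsg.Agent.Lib.Sporadic.J3.Simple
import Cfsg.Agent.Lib.Sporadic.J3Invol.Checks

/-! Elements of the triple cover of J3 named by checked tables, and facts on its centre. -/

set_option autoImplicit false

namespace CfsgLib.J3Invol

open Cfsg.Spor Matrix CfsgLib.J3

variable {F : Type*} [Field F] [Fintype F] {ω : F} (hF : Fintype.card F = 4) (hω : ω ^ 2 + ω + 1 = 0)

include hF in
theorem two_zero : (2 : F) = 0 := by
  have h4 : ((4 : ℕ) : F) = 0 := by rw [← hF]; exact Nat.cast_card_eq_zero F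
  have h : (2 : F) * 2 = 0 := by rw [← h4]; norm_num
  exact mul_self_eq_zero.1 h

/-- the matrix of an element -/
abbrev mx (g : threeJ3 F ω) : Matrix F9 F9 F := ((g : GL F9 F) : Matrix F9 F9 F)

omit [Fintype F] in
theorem mx_mul (g h : threeJ3 F ω) : mx (g * h) = mx g * mx h := rfl

omit [Fintype F] in
theorem mx_injective : Function.Injective (mx (F := F) (ω := ω)) := fun _ _ h => Subtype.ext (Units.ext h)

include hF hω

theorem exists_el {M : Matrix F9 F9 F} (h : M ∈ GS F ω) : ∃ g : threeJ3 F ω, mx g = M := by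
  obtain ⟨g, hg, he⟩ := (mem_GS_iff_exists (two_zero hF) hω).1 h
  exact ⟨⟨g, hg⟩, he⟩

theorem mx_mem_GS (g : threeJ3 F ω) : mx g ∈ GS F ω :=
  (mem_GS_iff_exists (two_zero hF) hω).2 ⟨g.1, g.2, rfl⟩

theorem exists_triple {c : M2} {e : ℕ × ℕ × ℕ} (h : tripleOk e = true) (hc : beq c (triple e) = true) :
    ∃ g : threeJ3 F ω, mx g = toM F ω c :=
  exists_el hF hω (by rw [beq_eq hc]; exact triple_mem (two_zero hF) hω h)

theorem eq_of_beq {g h k : threeJ3 F ω} {a b c : M2} (hg : mx g = toM F ω a) (hh : mx h = toM F ω b)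
    (hk : mx k = toM F ω c) (e : beq (mul a b) c = true) : g * h = k :=
  mx_injective (by rw [mx_mul, hg, hh, hk, ← toM_mul (two_zero hF) hω, beq_eq e])

theorem eq_of_beq2 {g h k l : threeJ3 F ω} {a b c d : M2} (hg : mx g = toM F ω a) (hh : mx h = toM F ω b)
    (hk : mx k = toM F ω c) (hl : mx l = toM F ω d) (e : beq (mul a b) (mul c d) = true) : g * h = k * l :=
  mx_injective (by
    rw [mx_mul, mx_mul, hg, hh, hk, hl, ← toM_mul (two_zero hF) hω, ← toM_mul (two_zero hF) hω, beq_eq e])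

/-- A table of elements, with a subgroup. -/
theorem exists_table {C : List M2} {T3 : List (ℕ × ℕ × ℕ)} {G : List ℕ} {E : List (List ℕ)} {P : List (ℕ × ℕ)}
    (h : chkTab C T3 G E P = true) (hn : (C.map key).Nodup) :
    ∃ (f : ℕ → threeJ3 F ω) (S : Subgroup (threeJ3 F ω)), (∀ k < C.length, mx (f k) = toM F ω (cd C k)) ∧
      f 0 = 1 ∧ (∀ i < C.length, ∀ j < C.length, f i = f j → i = j) ∧
      (∀ x, x ∈ S ↔ ∃ k < C.length, f k = x) ∧ Nat.card S = C.length ∧
      (∀ j < G.length, ix G j < C.length ∧ f (ix G j) ∈ S ∧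
        ∀ k < C.length, ix2 E j k < C.length ∧ f (ix G j) * f k = f (ix2 E j k)) ∧
      ∀ k < C.length, f k ∈ Submonoid.closure {x | ∃ j < G.length, f (ix G j) = x} := by
  classical
  simp only [chkTab, Bool.and_eq_true] at h
  obtain ⟨⟨⟨⟨hpos, hone⟩, hel⟩, hedge⟩, hpar⟩ := h
  have hpos : 0 < C.length := by simpa using hpos
  have hk : ∀ k < C.length, (∃ g : threeJ3 F ω, mx g = toM F ω (cd C k)) ∧ okb (cd C k) = true := fun k hk => by
    have := allFrom_spec hel k (Nat.zero_le k) (by omega)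
    simp only [Bool.and_eq_true] at this
    exact ⟨exists_triple hF hω this.1.1 this.2, this.1.2⟩
  let f : ℕ → threeJ3 F ω := fun k => if hk' : k < C.length then (hk k hk').1.choose else 1
  have hf : ∀ k < C.length, mx (f k) = toM F ω (cd C k) := fun k hk' => by
    simp only [f, dif_pos hk']; exact (hk k hk').1.choose_spec
  have hf0 : f 0 = 1 := mx_injective (by rw [hf 0 hpos, beq_eq hone, toM_one]; rfl)
  have hinj : ∀ i < C.length, ∀ j < C.length, f i = f j → i = j := fun i hi j hj e => by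
    have e' : cd C i = cd C j :=
      toM_injective (two_zero hF) hω (hk i hi).2 (hk j hj).2 (by rw [← hf i hi, e, hf j hj])
    have e1 : (C.map key)[i]'(by simpa using hi) = (C.map key)[j]'(by simpa using hj) := by
      simp only [List.getElem_map]
      simp only [cd, List.getD_eq_getElem?_getD, List.getElem?_eq_getElem hi, List.getElem?_eq_getElem hj,
        Option.getD_some] at e'
      rw [e']
    exact (hn.getElem_inj_iff).1 e1
  have hG : ∀ j < G.length, ix G j < C.length ∧ ∀ k < C.length, ix2 E j k < C.length ∧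
      f (ix G j) * f k = f (ix2 E j k) := fun j hj => by
    have := allFrom_spec hedge j (Nat.zero_le j) (by omega)
    simp only [Bool.and_eq_true, Nat.blt_eq] at this
    refine ⟨this.1, fun k hk' => ?_⟩
    have h' := allFrom_spec this.2 k (Nat.zero_le k) (by omega)
    simp only [Bool.and_eq_true, Nat.blt_eq] at h'
    exact ⟨h'.1, eq_of_beq hF hω (hf _ this.1) (hf k hk') (hf _ h'.1) h'.2⟩
  set M := Submonoid.closure {x : threeJ3 F ω | ∃ j < G.length, f (ix G j) = x} with hM
  have hmem : ∀ k < C.length, f k ∈ M := by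
    intro k
    induction k using Nat.strong_induction_on with
    | _ k ih =>
      intro hk'
      by_cases hk0 : k = 0
      · rw [hk0, hf0]; exact one_mem _
      · have := allFrom_spec hpar k (Nat.zero_le k) (by omega)
        simp only [Bool.or_eq_true, Bool.and_eq_true, Nat.beq_eq, Nat.blt_eq] at this
        obtain ⟨⟨hp, hg⟩, he⟩ := this.resolve_left hk0
        have e := ((hG _ hg).2 _ (hp.trans hk')).2
        rw [he] at e
        rw [← e]
        exact mul_mem (Submonoid.subset_closure ⟨_, hg, rfl⟩) (ih _ hp (hp.trans hk'))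
  have hclosed : ∀ x ∈ M, ∀ k < C.length, ∃ l < C.length, f l = x * f k := by
    intro x hx
    induction hx using Submonoid.closure_induction with
    | mem g hg =>
      obtain ⟨j, hj, rfl⟩ := hg
      exact fun k hk' => ⟨_, ((hG j hj).2 k hk').1, ((hG j hj).2 k hk').2.symm⟩
    | one => exact fun k hk' => ⟨k, hk', (one_mul _).symm⟩
    | mul a b _ _ iha ihb =>
      intro k hk'
      obtain ⟨l, hl, el⟩ := ihb k hk'
      obtain ⟨m, hm, em⟩ := iha l hl
      exact ⟨m, hm, by rw [em, el, mul_assoc]⟩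
  let S : Subgroup (threeJ3 F ω) :=
    { toSubmonoid := M
      inv_mem' := fun {x} hx => by
        rw [inv_eq_of_mul_eq_one_right (show x * x ^ (orderOf x - 1) = 1 by
          rw [← pow_succ', Nat.sub_add_cancel (orderOf_pos x), pow_orderOf_eq_one])]
        exact M.pow_mem hx _ }
  have hmemS : ∀ x, x ∈ S ↔ ∃ k < C.length, f k = x := fun x =>
    ⟨fun hx => by simpa [hf0] using hclosed x hx 0 hpos, by rintro ⟨k, hk', rfl⟩; exact hmem k hk'⟩
  refine ⟨f, S, hf, hf0, hinj, hmemS, ?_, fun j hj => ⟨(hG j hj).1, hmem _ (hG j hj).1, (hG j hj).2⟩, hmem⟩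
  let e : Fin C.length → S := fun k => ⟨f k, hmem k k.2⟩
  have he : Function.Bijective e := by
    refine ⟨fun a b hab => Fin.ext (hinj a a.2 b b.2 (congrArg Subtype.val hab)), fun x => ?_⟩
    obtain ⟨k, hk', e'⟩ := (hmemS x.1).1 x.2
    exact ⟨⟨k, hk'⟩, Subtype.ext e'⟩
  rw [← Nat.card_eq_of_bijective e he, Nat.card_fin]

theorem scalar_cases {c : F} (hc : c ≠ 0) : c = 1 ∨ c = ω ∨ c = ω * ω := by
  have h2 := two_zero hF
  have hne : ω ≠ 0 := fun e => by simp [e] at hω
  have h3 : c ^ 3 = 1 := by have := FiniteField.pow_card_sub_one_eq_one c hc; rwa [hF] at this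
  have : (c - 1) * ((c - ω) * (c - ω * ω)) = 0 := by
    linear_combination h3 + (ω * c - c ^ 2 - ω + 1) * hω + h2 * 0
  simpa [mul_eq_zero, sub_eq_zero] using this

theorem toM_omega : toM F ω omCode = ω • 1 := by
  have hb : ∀ r c : F9, bits omCode (fi r) (fi c) = (false, decide (r = c)) := by decide +kernel
  ext r c
  rw [toM, Matrix.of_apply, hb, Matrix.smul_apply, Matrix.one_apply]
  by_cases h : r = c <;> simp [h, el]

theorem zC_spec : ∀ z < 3, ∃ g : threeJ3 F ω, mx g = toM F ω (cd zC z) ∧ g ∈ Subgroup.center (threeJ3 F ω) := by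
  have h2 := two_zero hF
  have hom : ∃ g : threeJ3 F ω, mx g = toM F ω omCode := by
    obtain ⟨-, -, -, -, -, -, -, -, -, -, -, -, -, -, -, -, -, ho, he, -⟩ := misc
    exact exists_triple hF hω ho he
  obtain ⟨w, hw⟩ := hom
  have hwc : w ∈ Subgroup.center (threeJ3 F ω) := Subgroup.mem_center_iff.2 fun k => mx_injective (by
    rw [mx_mul, mx_mul, hw, toM_omega hF hω, mul_smul_comm, mul_one, smul_mul_assoc, one_mul])
  intro z hz
  interval_cases z
  · exact ⟨1, by show _ = toM F ω one; rw [toM_one]; rfl, one_mem _⟩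
  · exact ⟨w, hw, hwc⟩
  · exact ⟨w * w, by show _ = toM F ω (mul omCode omCode); rw [mx_mul, hw, toM_mul h2 hω], mul_mem hwc hwc⟩

theorem center_scalar {g : threeJ3 F ω} (hg : g ∈ Subgroup.center (threeJ3 F ω)) :
    ∃ c : F, c ≠ 0 ∧ mx g = c • 1 := by
  have h2 := two_zero hF
  obtain ⟨x, hx⟩ := exists_el hF hω (gX_mem (F := F) (ω := ω) h2 hω)
  obtain ⟨y, hy⟩ := exists_el hF hω (gY_mem (F := F) (ω := ω) h2 hω)
  obtain ⟨c, hc⟩ := commutant h2 hω (N := mx g)
    (by rw [← hx]; exact congrArg mx (Subgroup.mem_center_iff.1 hg x))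
    (by rw [← hy]; exact congrArg mx (Subgroup.mem_center_iff.1 hg y))
  refine ⟨c, fun h0 => ?_, hc⟩
  have h1 := (g : GL F9 F).mul_inv
  change mx g * _ = _ at h1
  rw [hc, h0, zero_smul, zero_mul] at h1
  exact zero_ne_one h1

theorem center_codes {g : threeJ3 F ω} (hg : g ∈ Subgroup.center (threeJ3 F ω)) :
    ∃ z < 3, mx g = toM F ω (cd zC z) := by
  have h2 := two_zero hF
  obtain ⟨c, hc0, hc⟩ := center_scalar hF hω hg
  rw [hc]
  rcases scalar_cases hF hω hc0 with rfl | rfl | rfl
  · exact ⟨0, by norm_num, by show _ = toM F ω one; rw [one_smul, toM_one]⟩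
  · exact ⟨1, by norm_num, (toM_omega hF hω).symm⟩
  · refine ⟨2, by norm_num, ?_⟩
    show _ = toM F ω (mul omCode omCode)
    rw [toM_mul h2 hω, toM_omega hF hω, smul_mul_smul_comm, mul_one]

theorem center_pow_three {g : threeJ3 F ω} (hg : g ∈ Subgroup.center (threeJ3 F ω)) : g ^ 3 = 1 := by
  obtain ⟨c, hc0, hc⟩ := center_scalar hF hω hg
  have h3 : c ^ 3 = 1 := by have := FiniteField.pow_card_sub_one_eq_one c hc0; rwa [hF] at this
  refine mx_injective ?_
  show mx (g ^ 3) = 1
  rw [pow_succ, pow_two, mx_mul, mx_mul, hc, smul_mul_smul_comm, smul_mul_smul_comm, ← pow_two, ← pow_succ, h3,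
    one_smul, one_mul, one_mul]

theorem center_eq_one {g : threeJ3 F ω} (hg : g ∈ Subgroup.center (threeJ3 F ω)) {n : ℕ} (hn : g ^ n = 1)
    (h3 : Nat.Coprime n 3) : g = 1 := by
  have h := pow_gcd_eq_one.2 ⟨hn, center_pow_three hF hω hg⟩
  rwa [h3, pow_one] at h

/-- An element commuting modulo the centre with an involution commutes with it. -/
theorem commute_of_mk {g w : threeJ3 F ω} (hw : w ^ 2 = 1)
    (h : QuotientGroup.mk' (Subgroup.center (threeJ3 F ω)) (g * w) =
      QuotientGroup.mk' (Subgroup.center (threeJ3 F ω)) (w * g)) : g * w = w * g := by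
  set z := g * w * g⁻¹ * w⁻¹ with hz
  have hzc : z ∈ Subgroup.center (threeJ3 F ω) := by
    rw [← QuotientGroup.eq_one_iff]
    show QuotientGroup.mk' (Subgroup.center (threeJ3 F ω)) z = 1
    rw [hz, map_mul, map_mul, h, map_mul, map_inv, map_inv]
    group
  have hconj : g * w * g⁻¹ = z * w := by rw [hz]; group
  have hz2 : z ^ 2 = 1 := by
    have h1 : (z * w) ^ 2 = 1 := by rw [← hconj, conj_pow, hw, mul_one, mul_inv_cancel]
    have hzw : Commute z w := (Subgroup.mem_center_iff.1 hzc w).symm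
    rwa [hzw.mul_pow, hw, mul_one] at h1
  have hz1 : z = 1 := center_eq_one hF hω hzc hz2 (by norm_num)
  rw [hz1, one_mul, mul_inv_eq_iff_eq_mul] at hconj
  exact hconj

end CfsgLib.J3Invol
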