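import Cfsg.Agent.Lib.Sporadic.J3Invol.Base

/-! The order of the centraliser of an involution in the triple cover of J3 is at most 5760. -/

set_option autoImplicit false

namespace CfsgLib.J3Invol

open Cfsg.Spor Matrix CfsgLib.J3

variable {F : Type*} [Field F] [Fintype F] {ω : F} (hF : Fintype.card F = 4) (hω : ω ^ 2 + ω + 1 = 0)

theorem fix_cases {i : ℕ} (hi : i < 6156) (h : sig i = i) : i ∈ oA ∨ i ∈ oB := by
  have h' : (!(Nat.beq (sig i) i) || memB i oA || memB i oB) = true := by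
    rcases Nat.lt_or_ge i 3078 with h0 | h0
    · exact allFrom_spec runFix0 i (Nat.zero_le i) (by omega)
    · exact allFrom_spec runFix1 i h0 (by omega)
  simp only [Bool.or_eq_true, Bool.not_eq_true', ← Bool.not_eq_true, Nat.beq_eq] at h'
  rcases h' with (h' | h') | h'
  · exact absurd h h'
  · exact Or.inl (memB_eq h')
  · exact Or.inr (memB_eq h')

include hF hω

/-- The stabiliser of the base coset. -/
theorem exists_Kh : ∃ Kh : Subgroup (threeJ3 F ω), (∀ g, g ∈ Kh ↔ InK F ω (mx g)) ∧ Nat.card Kh ≤ 24480 := by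
  have h2 := two_zero hF
  have hiff : ∀ g : threeJ3 F ω, mx g ∈ KS F ω → InK F ω (mx g) := fun g hg => by
    have h := KS_closed h2 hω hg 1 ⟨0, by norm_num, 0, by norm_num, by
      rw [beq_eq misc.2.1, beq_eq misc.2.2.1, toM_one, one_mul]⟩
    rwa [mul_one] at h
  let Kh : Subgroup (threeJ3 F ω) :=
    { carrier := {g | mx g ∈ KS F ω}
      one_mem' := by simp [mx]
      mul_mem' := fun {a b} ha hb => by
        show mx (a * b) ∈ KS F ω
        rw [mx_mul]; exact Submonoid.mul_mem _ ha hb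
      inv_mem' := fun {a} ha => by
        have he : a⁻¹ = a ^ (orderOf a - 1) := inv_eq_of_mul_eq_one_right
          (by rw [← pow_succ', Nat.sub_add_cancel (orderOf_pos a)]; exact pow_orderOf_eq_one a)
        show mx a⁻¹ ∈ KS F ω
        rw [he]
        show (((a ^ (orderOf a - 1) : threeJ3 F ω) : GL F9 F) : Matrix F9 F9 F) ∈ KS F ω
        rw [Subgroup.coe_pow, Units.val_pow_eq_pow_val]
        exact Submonoid.pow_mem _ ha _ }
  refine ⟨Kh, fun g => ⟨hiff g, fun h => InK_mem h2 hω h⟩, ?_⟩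
  have hm : ∀ x : Fin 272 × Fin 90, ∃ g : Kh, mx g.1 = toM F ω (U x.1) * toM F ω (V x.2) := fun x => by
    have hx := InK_mem (F := F) (ω := ω) h2 hω ⟨_, x.1.2, _, x.2.2, rfl⟩
    obtain ⟨g, hg⟩ := exists_el hF hω (KS_le_GS h2 hω hx)
    exact ⟨⟨g, by show mx g ∈ KS F ω; rw [hg]; exact hx⟩, hg⟩
  choose f hf using hm
  refine (Nat.card_le_card_of_surjective f fun g => ?_).trans (by simp)
  obtain ⟨a, ha, b, hb, he⟩ := hiff g.1 g.2
  exact ⟨(⟨a, ha⟩, ⟨b, hb⟩), Subtype.ext (mx_injective ((hf _).trans he.symm))⟩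

theorem card_centralizer_le {t : threeJ3 F ω} (ht : mx t = toM F ω tC)
    (d128 : 128 ∣ Nat.card (Subgroup.centralizer ({t} : Set (threeJ3 F ω))))
    (d60 : 60 ∣ Nat.card (Subgroup.centralizer ({t} : Set (threeJ3 F ω)))) :
    Nat.card (Subgroup.centralizer ({t} : Set (threeJ3 F ω))) ≤ 5760 := by
  classical
  have h2 := two_zero hF
  obtain ⟨Kh, hKh, hKcard⟩ := exists_Kh hF hω
  have hT0 : ∀ i, ∃ g : threeJ3 F ω, i < 6156 → mx g = toM F ω (T i) := fun i => by
    by_cases hi : i < 6156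
    · obtain ⟨g, hg⟩ := exists_el hF hω (T_mem h2 hω hi); exact ⟨g, fun _ => hg⟩
    · exact ⟨1, fun h => absurd h hi⟩
  choose fT hfT using hT0
  let pt : ℕ → threeJ3 F ω ⧸ Kh := fun i => (fT i : threeJ3 F ω ⧸ Kh)
  have hpt_of : ∀ (g : threeJ3 F ω) (i a b : ℕ), i < 6156 → a < 272 → b < 90 →
      mx g = toM F ω (T i) * (toM F ω (U a) * toM F ω (V b)) → (g : threeJ3 F ω ⧸ Kh) = pt i := by
    intro g i a b hi ha hb e
    refine (QuotientGroup.eq.2 ((hKh _).2 ⟨a, ha, b, hb, ?_⟩)).symm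
    have hu : IsUnit (toM F ω (T i)) := isUnit_of_mem h2 hω (T_mem h2 hω hi)
    refine hu.mul_left_cancel ?_
    conv_lhs => rw [← hfT i hi, ← mx_mul, mul_inv_cancel_left, e]
  have hinj : ∀ i j, i < 6156 → j < 6156 → pt i = pt j → i = j := by
    intro i j hi hj e
    obtain ⟨a, ha, b, hb, he⟩ := (hKh _).1 (QuotientGroup.eq.1 e)
    refine (cov_injective h2 hω (b := b) (d := 0) hi hj ha (by norm_num : 0 < 272) hb (by norm_num) ?_).1
    rw [mul_assoc, ← he, ← hfT i hi, ← mx_mul, mul_inv_cancel_left, hfT j hj, beq_eq misc.2.1, beq_eq misc.2.2.1,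
      toM_one, mul_one, mul_one]
  obtain ⟨x, hx⟩ := exists_el hF hω (gX_mem (F := F) (ω := ω) h2 hω)
  obtain ⟨y, hy⟩ := exists_el hF hω (gY_mem (F := F) (ω := ω) h2 hω)
  have hstep : ∀ (g : threeJ3 F ω) (c : M2) (tE : BT (ℕ × ℕ × ℕ)), mx g = toM F ω c →
      (∀ i, i < 6156 → chkE c tE i = true) → ∀ i, i < 6156 →
        (tE.get i).1 < 6156 ∧ g • pt i = pt (tE.get i).1 := by
    intro g c tE hg hok i hi
    have h := hok i hi
    simp only [chkE, Bool.and_eq_true, Nat.blt_eq] at h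
    obtain ⟨⟨⟨hj, ha⟩, hb⟩, he⟩ := h
    refine ⟨hj, hpt_of (g * fT i) _ _ _ hj ha hb ?_⟩
    rw [mx_mul, hg, hfT i hi, ← toM_mul h2 hω, beq_eq he, toM_mul h2 hω, toM_mul h2 hω, mul_assoc]
  have hX := hstep x gX tEX hx fun i hi => okEX hi
  have hY := hstep y gY tEY hy fun i hi => okEY hi
  have hword : t = y * x * y * x * y * x := mx_injective (by
    rw [ht, beq_eq tWord]
    simp only [mx_mul, toM_mul h2 hω, hx, hy, mul_assoc])
  have hsig : ∀ i, i < 6156 → sig i < 6156 ∧ t • pt i = pt (sig i) := by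
    intro i hi
    obtain ⟨a1, b1⟩ := hX i hi
    obtain ⟨a2, b2⟩ := hY _ a1
    obtain ⟨a3, b3⟩ := hX _ a2
    obtain ⟨a4, b4⟩ := hY _ a3
    obtain ⟨a5, b5⟩ := hX _ a4
    obtain ⟨a6, b6⟩ := hY _ a5
    refine ⟨a6, ?_⟩
    rw [hword, mul_smul, mul_smul, mul_smul, mul_smul, mul_smul, b1, b2, b3, b4, b5, b6]
    rfl
  -- tables
  obtain ⟨fq, SQ, hfq, -, -, hSQ, -, hGq, hMq⟩ := exists_table hF hω runQ nodupQ
  obtain ⟨fh, SH, hfh, -, -, hSH, -, hGh, hMh⟩ := exists_table hF hω runH nodupH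
  obtain ⟨lq, lh, -, lqG, lhG, -, -, -⟩ := lengths
  set C3 := Subgroup.centralizer ({t} : Set (threeJ3 F ω)) with hC3
  have hog : ∀ g < 6, ∃ c : C3, mx c.1 = toM F ω (og g) := by
    intro g hg
    rcases Nat.lt_or_ge g 4 with h | h
    · obtain ⟨hi, -, -⟩ := hGq g (by omega)
      refine ⟨⟨fq (ix qG g), Subgroup.mem_centralizer_singleton_iff.2 ?_⟩, ?_⟩
      · exact eq_of_beq2 hF hω (hfq _ hi) ht ht (hfq _ hi) (allFrom_spec runCommQ g (Nat.zero_le g) (by omega))
      · show mx (fq (ix qG g)) = _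
        rw [hfq _ hi, og, show Nat.blt g 4 = true by simpa using h, cond_true]
    · obtain ⟨hi, -, -⟩ := hGh (g - 4) (by omega)
      refine ⟨⟨fh (ix hG (g - 4)), Subgroup.mem_centralizer_singleton_iff.2 ?_⟩, ?_⟩
      · exact eq_of_beq2 hF hω (hfh _ hi) ht ht (hfh _ hi) (allFrom_spec runCommH (g - 4) (Nat.zero_le _) (by omega))
      · show mx (fh (ix hG (g - 4))) = _
        rw [hfh _ hi, og, show Nat.blt g 4 = false by rw [← Bool.not_eq_true, Nat.blt_eq]; omega, cond_false]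
  have htree : ∀ (O : List ℕ) (P : List (ℕ × ℕ × ℕ × ℕ)), chkOrb O P = true →
      ∀ k, k < O.length → ix O k < 6156 ∧ pt (ix O k) ∈ MulAction.orbit C3 (pt (ix O 0)) := by
    intro O P h k
    induction k using Nat.strong_induction_on with
    | _ k ih =>
      intro hk
      have := allFrom_spec h k (Nat.zero_le k) (by omega)
      simp only [Bool.and_eq_true, Bool.or_eq_true, Nat.blt_eq, Nat.beq_eq] at this
      refine ⟨this.1, ?_⟩
      rcases this.2 with hk0 | hk'
      · rw [hk0]; exact MulAction.mem_orbit_self _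
      · generalize P.getD k (0, 0, 0, 0) = e at hk'
        obtain ⟨g, p, a, b⟩ := e
        simp only [Bool.and_eq_true, Nat.blt_eq] at hk'
        obtain ⟨⟨⟨⟨hp, hg⟩, ha⟩, hb⟩, he⟩ := hk'
        obtain ⟨hpb, d, hd⟩ := ih p hp (hp.trans hk)
        obtain ⟨c, hc⟩ := hog g hg
        refine ⟨c * d, ?_⟩
        show (c * d) • pt (ix O 0) = _
        rw [mul_smul, show d • pt (ix O 0) = pt (ix O p) from hd]
        refine hpt_of (c.1 * fT (ix O p)) _ a b this.1 ha hb ?_
        rw [mx_mul, hc, hfT _ hpb, ← toM_mul h2 hω, beq_eq he, toM_mul h2 hω, toM_mul h2 hω, mul_assoc]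
  obtain ⟨lA, lB, hnodup⟩ := orb_facts
  have hmemA : ∀ i ∈ oA, i < 6156 ∧ pt i ∈ MulAction.orbit C3 (pt i0) := fun i hi => by
    obtain ⟨k, hk, rfl⟩ := List.getElem_of_mem hi
    have := htree oA oAP runOA k hk
    simp only [ix, List.getD_eq_getElem?_getD, List.getElem?_eq_getElem hk, Option.getD_some] at this
    exact this
  have hmemB : ∀ i ∈ oB, i < 6156 ∧ pt i ∈ MulAction.orbit C3 (pt (ix oB 0)) := fun i hi => by
    obtain ⟨k, hk, rfl⟩ := List.getElem_of_mem hi
    have := htree oB oBP runOB k hk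
    simp only [ix, List.getD_eq_getElem?_getD, List.getElem?_eq_getElem hk, Option.getD_some] at this
    exact this
  have hv0 := runV0
  simp only [Bool.and_eq_true, Nat.blt_eq] at hv0
  obtain ⟨⟨hva, hvb⟩, hve⟩ := hv0
  have hi0 : i0 < 6156 := (hmemA i0 (by
    rw [i0, ix, List.getD_eq_getElem?_getD, List.getElem?_eq_getElem (by omega), Option.getD_some]
    exact List.getElem_mem _)).1
  have ht0 : t • pt i0 = pt i0 := hpt_of (t * fT i0) _ _ _ hi0 hva hvb (by
    rw [mx_mul, ht, hfT _ hi0, ← toM_mul h2 hω, beq_eq hve, toM_mul h2 hω, vC, toM_mul h2 hω])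
  have hsub : ∀ z ∈ MulAction.orbit C3 (pt i0), ∃ i ∈ oA ++ oB, pt i = z := by
    rintro _ ⟨c, rfl⟩
    obtain ⟨j, hj, a, ha, b, hb, he⟩ := (mem_GS_iff h2 hω).1 (mx_mem_GS hF hω (c.1 * fT i0))
    have hcj : c • pt i0 = pt j := hpt_of (c.1 * fT i0) _ a b hj ha hb (by rw [he, mul_assoc])
    refine ⟨j, List.mem_append.2 (fix_cases hj ?_), hcj.symm⟩
    refine hinj _ _ (hsig j hj).1 hj ?_
    rw [← (hsig j hj).2, ← hcj]
    show t • (c.1 • pt i0) = c.1 • pt i0
    rw [← mul_smul, ← Subgroup.mem_centralizer_singleton_iff.1 c.2, mul_smul, ht0]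
  have himg : ∀ l : List ℕ, l.Nodup → (∀ i ∈ l, i < 6156) →
      Set.ncard {z | ∃ i ∈ l, pt i = z} = l.length := by
    intro l hl hlt
    have e : {z | ∃ i ∈ l, pt i = z} = ↑(l.toFinset.image pt) := by
      ext z; simp
    rw [e, Set.ncard_coe_finset, Finset.card_image_of_injOn, List.toFinset_card_of_nodup hl]
    intro a ha b hb e'
    exact hinj a b (hlt a (List.mem_toFinset.1 ha)) (hlt b (List.mem_toFinset.1 hb)) e'
  have horb : Set.ncard (MulAction.orbit C3 (pt i0)) = 16 ∨ Set.ncard (MulAction.orbit C3 (pt i0)) = 76 := by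
    by_cases hB : pt (ix oB 0) ∈ MulAction.orbit C3 (pt i0)
    · right
      have e : MulAction.orbit C3 (pt i0) = {z | ∃ i ∈ oA ++ oB, pt i = z} := by
        refine Set.Subset.antisymm (fun z hz => hsub z hz) ?_
        rintro _ ⟨i, hi, rfl⟩
        rcases List.mem_append.1 hi with hi | hi
        · exact (hmemA i hi).2
        · rw [← MulAction.orbit_eq_iff.2 hB]; exact (hmemB i hi).2
      rw [e, himg _ hnodup, List.length_append, lA, lB]
      intro i hi
      rcases List.mem_append.1 hi with hi | hi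
      · exact (hmemA i hi).1
      · exact (hmemB i hi).1
    · left
      have e : MulAction.orbit C3 (pt i0) = {z | ∃ i ∈ oA, pt i = z} := by
        refine Set.Subset.antisymm (fun z hz => ?_) (by rintro _ ⟨i, hi, rfl⟩; exact (hmemA i hi).2)
        obtain ⟨i, hi, rfl⟩ := hsub z hz
        refine ⟨i, (List.mem_append.1 hi).resolve_right fun hib => hB ?_, rfl⟩
        rw [← MulAction.orbit_eq_iff.2 hz, MulAction.orbit_eq_iff.2 (hmemB i hib).2]
        exact MulAction.mem_orbit_self _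
      rw [e, himg _ (List.nodup_append.1 hnodup).1 fun i hi => (hmemA i hi).1, lA]
  -- the stabiliser
  set v := (fT i0)⁻¹ * t * fT i0 with hv
  have hvm : mx v = toM F ω vC := by
    refine (isUnit_of_mem h2 hω (T_mem h2 hω hi0)).mul_left_cancel ?_
    conv_lhs => rw [← hfT _ hi0, ← mx_mul, hv, ← mul_assoc, ← mul_assoc, mul_inv_cancel, one_mul, mx_mul, ht,
      hfT _ hi0]
    rw [← toM_mul h2 hω, beq_eq hve, toM_mul h2 hω]
  set D := (Subgroup.centralizer ({v} : Set (threeJ3 F ω))).subgroupOf Kh with hD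
  have hclass : 68 ≤ D.index := by
    obtain ⟨hcn, hcl⟩ := clW_facts
    have hk : ∀ m : Fin 68, ∃ k : Kh, okb (clW.getD m.val (one, (0, 0))).1 = true ∧
        mx (k.1 * v * k.1⁻¹) = toM F ω (clW.getD m.val (one, (0, 0))).1 := by
      intro m
      have := allFrom_spec runCl m.val (Nat.zero_le _) (by omega)
      generalize clW.getD m.val (one, (0, 0)) = e at this
      obtain ⟨w, a, b⟩ := e
      simp only [Bool.and_eq_true, Nat.blt_eq] at this
      obtain ⟨⟨⟨hw, ha⟩, hb⟩, he⟩ := this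
      have hkm := InK_mem (F := F) (ω := ω) h2 hω ⟨a, ha, b, hb, rfl⟩
      obtain ⟨k, hk⟩ := exists_el hF hω (KS_le_GS h2 hω hkm)
      refine ⟨⟨k, (hKh _).2 ⟨a, ha, b, hb, hk⟩⟩, hw, ?_⟩
      show mx (k * v * k⁻¹) = toM F ω w
      refine (isUnit_of_mem h2 hω (KS_le_GS h2 hω hkm)).mul_right_cancel ?_
      conv_lhs => rw [← hk, ← mx_mul, inv_mul_cancel_right, mx_mul, hk, hvm, ← toM_mul h2 hω, ← toM_mul h2 hω, beq_eq he,
        toM_mul h2 hω, toM_mul h2 hω]
    choose k hok hk using hk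
    have h1 := Nat.card_le_card_of_injective (fun m : Fin 68 => (k m : Kh ⧸ D)) ?_
    · rwa [Nat.card_fin, ← Subgroup.index_eq_card] at h1
    · intro a b e
      have e1 : (k a)⁻¹ * k b ∈ D := QuotientGroup.eq.1 e
      have hc : ((k a)⁻¹ * k b).1 * v = v * ((k a)⁻¹ * k b).1 :=
        Subgroup.mem_centralizer_singleton_iff.1 (Subgroup.mem_subgroupOf.1 e1)
      have hab : (k a).1 * v * (k a).1⁻¹ = (k b).1 * v * (k b).1⁻¹ := by
        have e2 : ((k a).1⁻¹ * (k b).1) * v = v * ((k a).1⁻¹ * (k b).1) := hc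
        calc (k a).1 * v * (k a).1⁻¹ = (k a).1 * (v * ((k a).1⁻¹ * (k b).1)) * (k b).1⁻¹ := by group
          _ = _ := by rw [← e2]; group
      have he : toM F ω (clW.getD a.val (one, (0, 0))).1 = toM F ω (clW.getD b.val (one, (0, 0))).1 := by
        rw [← hk a, ← hk b, hab]
      have he' := toM_injective h2 hω (hok a) (hok b) he
      have ha' : a.val < clW.length := by omega
      have hb' : b.val < clW.length := by omega
      have e1 : (clW.map fun x => key x.1)[a.val]'(by simpa using ha') =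
          (clW.map fun x => key x.1)[b.val]'(by simpa using hb') := by
        simp only [List.getElem_map]
        simp only [List.getD_eq_getElem?_getD, List.getElem?_eq_getElem ha', List.getElem?_eq_getElem hb',
          Option.getD_some] at he'
        rw [he']
      exact Fin.ext (hcn.getElem_inj_iff.1 e1)
  have hstab : Nat.card (MulAction.stabilizer C3 (pt i0)) ≤ 360 := by
    have hmem : ∀ c : MulAction.stabilizer C3 (pt i0), (fT i0)⁻¹ * c.1.1 * fT i0 ∈ Kh := fun c => by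
      have h : c.1.1 • pt i0 = pt i0 := c.2
      have h' : (((c.1.1 * fT i0) : threeJ3 F ω) : threeJ3 F ω ⧸ Kh) = (fT i0 : threeJ3 F ω ⧸ Kh) := h
      have := QuotientGroup.eq.1 h'.symm
      rwa [← mul_assoc] at this
    have hcomm : ∀ c : MulAction.stabilizer C3 (pt i0), (⟨_, hmem c⟩ : Kh) ∈ D := fun c => by
      rw [hD, Subgroup.mem_subgroupOf, Subgroup.mem_centralizer_singleton_iff]
      have e : c.1.1 * t = t * c.1.1 := Subgroup.mem_centralizer_singleton_iff.1 c.1.2
      calc (fT i0)⁻¹ * c.1.1 * fT i0 * v = (fT i0)⁻¹ * (c.1.1 * t) * fT i0 := by rw [hv]; group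
        _ = _ := by rw [e, hv]; group
    have h1 := Nat.card_le_card_of_injective (fun c => (⟨⟨_, hmem c⟩, hcomm c⟩ : D)) fun a b h => by
      have h' : (fT i0)⁻¹ * a.1.1 * fT i0 = (fT i0)⁻¹ * b.1.1 * fT i0 := congrArg (fun z : D => z.1.1) h
      exact Subtype.ext (Subtype.ext (mul_left_cancel (mul_right_cancel h')))
    have h2' := D.card_mul_index
    have h3 : Nat.card D * 68 ≤ 24480 := (Nat.mul_le_mul_left _ hclass).trans (h2'.le.trans hKcard)
    refine le_trans h1 ?_
    exact Nat.le_of_mul_le_mul_right (le_of_le_of_eq h3 (by norm_num)) (by norm_num : 0 < 68)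
  have hmul := (MulAction.stabilizer C3 (pt i0)).card_mul_index
  rw [MulAction.index_stabilizer] at hmul
  rcases horb with h | h <;> rw [h] at hmul
  · omega
  · exfalso
    have hd : 36480 ∣ Nat.card C3 := by
      have h76 : 76 ∣ Nat.card C3 := Dvd.intro_left _ hmul
      exact Nat.lcm_dvd (Nat.lcm_dvd d128 d60) h76
    have hpos : 0 < Nat.card C3 := Nat.card_pos
    have hle := Nat.le_of_dvd hpos hd
    omega

end CfsgLib.J3Invol
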