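import Cfsg.Agent.Lib.Sporadic.J3Invol.Bound
import Cfsg.Agent.Lib.LargeXS.OfCommutators
import Cfsg.Agent.Lib.LargeXS.Congr
import Cfsg.Prelude.Def_Transfer

/-! The involutions of J3 and their centralisers. -/

set_option autoImplicit false

namespace CfsgLib.J3Invol

open Cfsg.Spor Matrix CfsgLib.J3
open scoped Pointwise

theorem meetZ : allFrom 0 3 (fun z => Nat.beq z 0 || allFrom 0 60 fun k => !(beq (cd zC z) (cd hC k))) = true := by
  decide +kernel

theorem tq_sq : qm tq tq = 0 := by decide +kernel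

theorem sign_gp (k : ℕ) : Equiv.Perm.sign (gp k) = 1 := by
  unfold gp
  induction hW.getD k [] with
  | nil => exact map_one _
  | cons g l ih =>
    rw [List.foldr_cons, map_mul, ih, mul_one]
    split
    · exact sign_pgen.1
    · exact sign_pgen.2

/-- A set of pairwise commuting involutions has at most four elements when any three distinct
non-trivial members are dependent. -/
theorem card_elementary_le {P : Type*} [Group P] [Finite P] (E : Subgroup P)
    (h : ∀ x ∈ E, ∀ y ∈ E, ∀ z ∈ E, x ≠ 1 → y ≠ 1 → z ≠ 1 → y ≠ x → z ≠ x → z ≠ y → z = x * y) :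
    Nat.card E ≤ 2 ^ 2 := by
  classical
  by_contra hc
  push Not at hc
  have hfin : (E : Set P).Finite := Set.toFinite _
  have hcard : hfin.toFinset.card = Nat.card E := by
    rw [← Set.ncard_eq_toFinset_card _ hfin]; exact (Nat.card_coe_set_eq (E : Set P)).symm
  obtain ⟨x, hx, hx1⟩ := Finset.exists_mem_notMem_of_card_lt_card (s := ({1} : Finset P)) (t := hfin.toFinset)
    (by rw [hcard, Finset.card_singleton]; omega)
  obtain ⟨y, hy, hy1⟩ := Finset.exists_mem_notMem_of_card_lt_card (s := ({1, x} : Finset P)) (t := hfin.toFinset)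
    (by rw [hcard]; have := Finset.card_le_two (a := (1 : P)) (b := x); omega)
  obtain ⟨z, hz, hz1⟩ := Finset.exists_mem_notMem_of_card_lt_card (s := ({1, x, y, x * y} : Finset P)) (t := hfin.toFinset)
    (by rw [hcard]; have := Finset.card_le_four (a := (1 : P)) (b := x) (c := y) (d := x * y); omega)
  simp only [Set.Finite.mem_toFinset, SetLike.mem_coe, Finset.mem_insert, Finset.mem_singleton, not_or] at *
  exact hz1.2.2.2 (h x hx y hy z hz hx1 hy1.1 hz1.1 hy1.2 hz1.2.1 hz1.2.2.1)

variable {F : Type*} [Field F] [Fintype F] {ω : F} (hF : Fintype.card F = 4) (hω : ω ^ 2 + ω + 1 = 0)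

/-- the projection -/
abbrev proj : threeJ3 F ω →* J3 F ω := QuotientGroup.mk' (Subgroup.center (threeJ3 F ω))

omit [Fintype F] in
theorem proj_eq_one {g : threeJ3 F ω} : proj g = 1 ↔ g ∈ Subgroup.center (threeJ3 F ω) := QuotientGroup.eq_one_iff g

include hF hω

theorem proj_injOn {S : Subgroup (threeJ3 F ω)} {n : ℕ} (hS : Nat.card S = n) (hn : Nat.Coprime n 3) :
    Function.Injective ((proj (F := F) (ω := ω)).comp S.subtype) :=
  (injective_iff_map_eq_one _).2 fun x hx => Subtype.ext (center_eq_one hF hω (proj_eq_one.1 hx)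
    (by rw [← hS]; exact congrArg Subtype.val (pow_card_eq_one' (x := x))) hn)

theorem card_proj_centralizer_le {t : threeJ3 F ω} (ht : t ^ 2 = 1)
    (hle : Nat.card (Subgroup.centralizer ({t} : Set (threeJ3 F ω))) ≤ 5760) :
    Nat.card (Subgroup.centralizer ({proj t} : Set (J3 F ω))) ≤ 1920 := by
  classical
  have hlift : ∀ x : Subgroup.centralizer ({proj t} : Set (J3 F ω)),
      ∃ g : Subgroup.centralizer ({t} : Set (threeJ3 F ω)), proj g.1 = x.1 := by
    intro x
    obtain ⟨g, hg⟩ := QuotientGroup.mk'_surjective (Subgroup.center (threeJ3 F ω)) x.1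
    refine ⟨⟨g, Subgroup.mem_centralizer_singleton_iff.2 (commute_of_mk hF hω ht ?_)⟩, hg⟩
    have := Subgroup.mem_centralizer_singleton_iff.1 x.2
    rw [← hg] at this
    rw [map_mul, map_mul]; exact this
  choose lift hlift using hlift
  have hzs : ∀ z : Fin 3, ∃ g : threeJ3 F ω, mx g = toM F ω (cd zC z) ∧ g ∈ Subgroup.center (threeJ3 F ω) :=
    fun z => zC_spec hF hω z z.2
  choose ζ hζ hζc using hzs
  have hmem : ∀ p : Fin 3 × Subgroup.centralizer ({proj t} : Set (J3 F ω)),
      ζ p.1 * (lift p.2).1 ∈ Subgroup.centralizer ({t} : Set (threeJ3 F ω)) := fun p =>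
    mul_mem (Subgroup.mem_centralizer_singleton_iff.2 (Subgroup.mem_center_iff.1 (hζc p.1) t).symm) (lift p.2).2
  have hinj : Function.Injective
      (fun p => (⟨_, hmem p⟩ : Subgroup.centralizer ({t} : Set (threeJ3 F ω)))) := by
    rintro ⟨z, x⟩ ⟨z', x'⟩ h
    have h' : ζ z * (lift x).1 = ζ z' * (lift x').1 := congrArg Subtype.val h
    have hx : x = x' := by
      refine Subtype.ext ?_
      rw [← hlift x, ← hlift x']
      have := congrArg proj h'
      rwa [map_mul, map_mul, proj_eq_one.2 (hζc z), proj_eq_one.2 (hζc z'), one_mul, one_mul] at this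
    subst hx
    refine Prod.ext (Fin.ext ?_) rfl
    have e := toM_injective (two_zero hF) hω (allFrom_spec nodupZ.2 z.val (Nat.zero_le _) (by omega))
      (allFrom_spec nodupZ.2 z'.val (Nat.zero_le _) (by omega)) (by rw [← hζ, ← hζ, mul_right_cancel h'])
    have hlen : zC.length = 3 := rfl
    have e1 : (zC.map key)[z.val]'(by simp [hlen]) = (zC.map key)[z'.val]'(by simp [hlen]) := by
      simp only [List.getElem_map]
      simp only [cd, List.getD_eq_getElem?_getD, List.getElem?_eq_getElem (show z.val < zC.length by omega),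
        List.getElem?_eq_getElem (show z'.val < zC.length by omega), Option.getD_some] at e
      rw [e]
    exact nodupZ.1.getElem_inj_iff.1 e1
  have h := Nat.card_le_card_of_injective _ hinj
  rw [Nat.card_prod, Nat.card_fin] at h
  omega

theorem involutions_conj {t : threeJ3 F ω} (ht : mx t = toM F ω tC) {x : J3 F ω} (hx : orderOf x = 2) :
    IsConj (proj t) x := by
  classical
  have : Fact (Nat.Prime 2) := ⟨Nat.prime_two⟩
  obtain ⟨-, -, ls, -, -, -, -, -⟩ := lengths
  obtain ⟨f, S, hf, hf0, -, hS, hcard, -, -⟩ := exists_table hF hω runS nodupS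
  rw [ls] at hcard
  have hinj := proj_injOn hF hω (S := S) hcard (by norm_num)
  have hcS : Nat.card (S.map proj) = 2 ^ 7 := by
    rw [show S.map proj = ((proj (F := F) (ω := ω)).comp S.subtype).range by
      rw [MonoidHom.range_comp, Subgroup.range_subtype], ← Nat.card_congr (MonoidHom.ofInjective hinj).toEquiv, hcard]; norm_num
  have hfac : (Nat.card (J3 F ω)).factorization 2 = 7 := by
    have hh := Subgroup.card_eq_card_quotient_mul_card_subgroup (Subgroup.center (threeJ3 F ω))
    rw [card_threeJ3 (two_zero hF) hω] at hh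
    have hz3 : Nat.card (Subgroup.center (threeJ3 F ω)) = 3 := by
      have hb : ∀ z : Fin 3, ∃ g : Subgroup.center (threeJ3 F ω), mx g.1 = toM F ω (cd zC z) := fun z => by
        obtain ⟨g, hg, hgc⟩ := zC_spec hF hω z z.2; exact ⟨⟨g, hgc⟩, hg⟩
      choose ζ hζ using hb
      have hbij : Function.Bijective ζ := by
        refine ⟨fun z z' e => ?_, fun g => ?_⟩
        · have e' := toM_injective (two_zero hF) hω (allFrom_spec nodupZ.2 z.val (Nat.zero_le _) (by omega))
            (allFrom_spec nodupZ.2 z'.val (Nat.zero_le _) (by omega)) (by rw [← hζ, ← hζ, e])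
          have e'' := congrArg key e'
          clear hζ e e'
          revert z z'
          decide +kernel
        · obtain ⟨z, hz, he⟩ := center_codes hF hω g.2
          exact ⟨⟨z, hz⟩, Subtype.ext (mx_injective ((hζ _).trans he.symm))⟩
      rw [← Nat.card_eq_of_bijective ζ hbij, Nat.card_fin]
    rw [hz3] at hh
    have hJ : Nat.card (J3 F ω) = 2 ^ 7 * 392445 := by
      show Nat.card (threeJ3 F ω ⧸ _) = _
      omega
    rw [hJ, Nat.factorization_mul (by norm_num) (by norm_num), Finsupp.add_apply,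
      Nat.prime_two.factorization_pow, Finsupp.single_eq_same,
      Nat.factorization_eq_zero_of_not_dvd (by norm_num : ¬ 2 ∣ 392445)]
  let P : Sylow 2 (J3 F ω) := Sylow.ofCard (S.map proj) (by rw [hcS, hfac])
  obtain ⟨R, hR⟩ := IsPGroup.exists_le_sylow (IsPGroup.of_card (G := Subgroup.zpowers x) (p := 2) (n := 1)
    (by rw [Nat.card_zpowers, hx, pow_one]))
  obtain ⟨g, hg⟩ := MulAction.exists_smul_eq (J3 F ω) P R
  have hxR : x ∈ R := hR (Subgroup.mem_zpowers x)
  have hx' : x ∈ MulAut.conj g • (S.map proj) := by rw [← hg] at hxR; exact hxR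
  rw [Subgroup.mem_pointwise_smul_iff_inv_smul_mem] at hx'
  obtain ⟨s, hs, hse⟩ : ∃ s ∈ S, proj s = g⁻¹ * x * g := by
    obtain ⟨s, hs, he⟩ := hx'
    exact ⟨s, hs, he.trans (by simp)⟩
  have hconj : IsConj (proj s) x := isConj_iff.2 ⟨g, by rw [hse]; group⟩
  refine IsConj.trans ?_ hconj
  have hs1 : s ≠ 1 := fun e => by
    rw [e, map_one] at hconj
    rw [isConj_one_right.1 hconj, orderOf_one] at hx
    omega
  have hs2 : s * s = 1 := by
    have hps : proj (s * s) = 1 := by
      rw [map_mul, hse]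
      have : x * x = 1 := by rw [← pow_two, ← hx]; exact pow_orderOf_eq_one x
      calc g⁻¹ * x * g * (g⁻¹ * x * g) = g⁻¹ * (x * x) * g := by group
        _ = 1 := by rw [this]; group
    refine center_eq_one hF hω (proj_eq_one.1 hps) (n := 128) ?_ (by norm_num)
    rw [← hcard]
    exact congrArg Subtype.val (pow_card_eq_one' (x := (⟨s * s, mul_mem hs hs⟩ : S)))
  obtain ⟨k, hk, rfl⟩ := (hS s).1 hs
  have hk128 : k < 128 := ls ▸ hk
  have hw := allFrom_spec runSW k (Nat.zero_le k) (by omega)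
  generalize sW.getD k (one, (0, 0, 0), 0) = e at hw
  obtain ⟨c, tr3, sq⟩ := e
  simp only [Bool.or_eq_true, Nat.beq_eq] at hw
  rcases hw with hw | hw
  · exact absurd (hw ▸ hf0) hs1
  by_cases hsq : sq = 0
  · subst hsq
    simp only [Nat.beq_refl, cond_true, Bool.and_eq_true] at hw
    obtain ⟨⟨htri, hc⟩, he⟩ := hw
    obtain ⟨c', hc'⟩ := exists_triple hF hω htri hc
    have e := eq_of_beq2 hF hω hc' ht (hf k hk) hc' he
    exact isConj_iff.2 ⟨proj c', by rw [← map_inv, ← map_mul, ← map_mul, e, mul_inv_cancel_right]⟩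
  · exfalso
    have hb : Nat.beq sq 0 = false := by rw [← Bool.not_eq_true, Nat.beq_eq]; exact hsq
    simp only [hb, cond_false, Bool.and_eq_true, Nat.blt_eq] at hw
    have e := eq_of_beq hF hω (hf k hk) (hf k hk) (hf sq (by omega)) hw.2
    rw [hs2] at e
    obtain ⟨f', S', hf', hf0', hinj', -⟩ := exists_table hF hω runS nodupS
    have : f' sq = 1 := mx_injective (by rw [hf' sq (by omega), ← hf sq (by omega), ← e])
    exact hsq (hinj' sq (by omega) 0 (by omega) (this.trans hf0'.symm))

set_option maxHeartbeats 2000000 in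
theorem main : (∀ x y : J3 F ω, orderOf x = 2 → orderOf y = 2 → IsConj x y) ∧ ∃ t : J3 F ω, orderOf t = 2 ∧
    ∃ (Q : Subgroup ↥(Subgroup.centralizer ({t} : Set (J3 F ω)))) (_ : Q.Normal),
      Cfsg.IsExtraspecial 2 Q ∧ Nat.card Q = 32 ∧
      (∀ E : Subgroup Q, Cfsg.IsElementaryAbelian 2 E → Nat.card E ≤ 2 ^ 2) ∧
      (∃ H : Subgroup ↥(Subgroup.centralizer ({t} : Set (J3 F ω))), Q.IsComplement' H) ∧
      Nonempty (↥(Subgroup.centralizer ({t} : Set (J3 F ω))) ⧸ Q ≃* ↥(alternatingGroup (Fin 5))) := by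
  classical
  have : Fact (Nat.Prime 2) := ⟨Nat.prime_two⟩
  obtain ⟨lq, lh, ls, lqG, lhG, lsG, htq, htq0⟩ := lengths
  obtain ⟨fq, SQ, hfq, hfq0, hqinj, hSQ, hcQ, hGq, hMq⟩ := exists_table hF hω runQ nodupQ
  obtain ⟨fh, SH, hfh, hfh0, hhinj, hSH, hcH, hGh, hMh⟩ := exists_table hF hω runH nodupH
  obtain ⟨fs, SS, hfs, -, -, hSS, hcS, hGs, hMs⟩ := exists_table hF hω runS nodupS
  rw [lq] at hcQ; rw [lh] at hcH; rw [ls] at hcS
  have hqmul : ∀ i, i < 32 → ∀ j, j < 32 → qm i j < 32 ∧ fq i * fq j = fq (qm i j) := fun i hi j hj => by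
    have := allFrom_spec (allFrom_spec runQM i (Nat.zero_le i) (by omega)) j (Nat.zero_le j) (by omega)
    simp only [Bool.and_eq_true, Nat.blt_eq] at this
    exact ⟨this.1, eq_of_beq hF hω (hfq i (by omega)) (hfq j (by omega)) (hfq _ (by omega)) this.2⟩
  set t := fq tq with htdef
  have htm : mx t = toM F ω tC := hfq tq (by omega)
  have ht1 : t ≠ 1 := fun e => htq0 (hqinj tq (by omega) 0 (by omega) (e.trans hfq0.symm))
  have ht2 : t ^ 2 = 1 := by rw [pow_two, (hqmul tq htq tq htq).2, tq_sq, hfq0]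
  set C3 := Subgroup.centralizer ({t} : Set (threeJ3 F ω)) with hC3
  have hle3 : ∀ (C : List M2) (G : List ℕ) (f : ℕ → threeJ3 F ω) (S : Subgroup (threeJ3 F ω)),
      (∀ k < C.length, mx (f k) = toM F ω (cd C k)) → (∀ x, x ∈ S ↔ ∃ k < C.length, f k = x) →
      (∀ j < G.length, ix G j < C.length) →
      (∀ k < C.length, f k ∈ Submonoid.closure {x | ∃ j < G.length, f (ix G j) = x}) →
      allFrom 0 G.length (fun j => beq (mul (cd C (ix G j)) tC) (mul tC (cd C (ix G j)))) = true → S ≤ C3 := by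
    intro C G f S hf hS hG hM hrun x hx
    obtain ⟨k, hk, rfl⟩ := (hS x).1 hx
    refine (Submonoid.closure_le (S := C3.toSubmonoid)).2 ?_ (hM k hk)
    rintro _ ⟨j, hj, rfl⟩
    exact Subgroup.mem_centralizer_singleton_iff.2 (eq_of_beq2 hF hω (hf _ (hG j hj)) htm htm (hf _ (hG j hj))
      (allFrom_spec hrun j (Nat.zero_le j) (by omega)))
  have hQC := hle3 qC qG fq SQ hfq hSQ (fun j hj => (hGq j hj).1) hMq (by rw [lqG]; exact runCommQ)
  have hHC := hle3 hC hG fh SH hfh hSH (fun j hj => (hGh j hj).1) hMh (by rw [lhG]; exact runCommH)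
  have hSC := hle3 sC sG fs SS hfs hSS (fun j hj => (hGs j hj).1) hMs (by rw [lsG]; exact runCommS)
  have hbound := card_centralizer_le hF hω htm (hcS ▸ Subgroup.card_dvd_of_le hSC) (hcH ▸ Subgroup.card_dvd_of_le hHC)
  have hbar := card_proj_centralizer_le hF hω ht2 hbound
  have ht' : orderOf (proj t) = 2 := orderOf_eq_prime (p := 2) (by rw [← map_pow, ht2, map_one])
    (fun e => ht1 (center_eq_one hF hω (proj_eq_one.1 e) ht2 (by norm_num)))
  refine ⟨fun x y hx hy => (involutions_conj hF hω htm hx).symm.trans (involutions_conj hF hω htm hy), proj t, ht', ?_⟩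
  set Cb := Subgroup.centralizer ({proj t} : Set (J3 F ω)) with hCb
  let toCb : C3 →* Cb := (proj.comp C3.subtype).codRestrict _ fun g => Subgroup.mem_centralizer_singleton_iff.2 (by
    show proj g.1 * proj t = proj t * proj g.1
    rw [← map_mul, ← map_mul, Subgroup.mem_centralizer_singleton_iff.1 g.2])
  -- the meeting with the centre
  have hmeet : ∀ q ∈ SQ, ∀ h ∈ SH, q * h ∈ Subgroup.center (threeJ3 F ω) → q = 1 ∧ h = 1 := by
    intro q hq h hh hc
    obtain ⟨z, hz, hzm⟩ := center_codes hF hω hc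
    obtain ⟨k, hk, hke⟩ := (hSH h).1 hh
    obtain ⟨i, hi, hie⟩ := (hSQ q⁻¹).1 (inv_mem hq)
    obtain ⟨ζ, hζ, hζc⟩ := zC_spec hF hω z hz
    have hqh : q * h = ζ := mx_injective (hzm.trans hζ.symm)
    have heq : ζ * q⁻¹ = h := by
      rw [← Subgroup.mem_center_iff.1 hζc q⁻¹, ← hqh, inv_mul_cancel_left]
    have hi0 : i = 0 := by
      by_contra hne
      have := allFrom_spec runMeet z (Nat.zero_le z) (by omega)
      have := allFrom_spec this i (Nat.zero_le i) (by omega)
      simp only [Bool.or_eq_true, Nat.beq_eq, hne, false_or] at this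
      have := allFrom_spec this k (Nat.zero_le k) (by omega)
      rw [Bool.not_eq_true'] at this
      have e : toM F ω (mul (cd zC z) (cd qC i)) = toM F ω (cd hC k) := by
        rw [toM_mul (two_zero hF) hω, ← hζ, ← hfq i hi, hie, ← mx_mul, heq, ← hke, hfh k hk]
      have hok : okb (cd hC k) = true := by
        have h' := runH
        simp only [chkTab, Bool.and_eq_true] at h'
        have := allFrom_spec h'.1.1.2 k (Nat.zero_le k) (by omega)
        simp only [Bool.and_eq_true] at this
        exact this.1.2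
      have hok2 : okb (mul (cd zC z) (cd qC i)) = true := by
        have hh : allFrom 0 3 (fun z => allFrom 0 32 fun i => okb (mul (cd zC z) (cd qC i))) = true := by
          decide +kernel
        exact allFrom_spec (allFrom_spec hh z (Nat.zero_le z) (by omega)) i (Nat.zero_le i) (by omega)
      rw [toM_injective (two_zero hF) hω hok2 hok e] at this
      simp [beq] at this
    rw [hi0, hfq0] at hie
    have hq1 : q = 1 := inv_eq_one.1 hie.symm
    refine ⟨hq1, ?_⟩
    rw [hq1, inv_one, mul_one] at heq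
    by_contra hne
    have hz0 : z ≠ 0 := fun e => hne (by
      rw [← heq]; subst e
      exact mx_injective (hζ.trans (toM_one (F := F) (ω := ω))))
    have := allFrom_spec meetZ z (Nat.zero_le z) (by omega)
    simp only [Bool.or_eq_true, Nat.beq_eq, hz0, false_or] at this
    have := allFrom_spec this k (Nat.zero_le k) (by omega)
    rw [Bool.not_eq_true'] at this
    have hok : okb (cd hC k) = true := by
      have h' := runH
      simp only [chkTab, Bool.and_eq_true] at h'
      have := allFrom_spec h'.1.1.2 k (Nat.zero_le k) (by omega)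
      simp only [Bool.and_eq_true] at this
      exact this.1.2
    rw [toM_injective (two_zero hF) hω (allFrom_spec nodupZ.2 z (Nat.zero_le z) (by omega)) hok
      (by rw [← hζ, heq, ← hke, hfh k hk])] at this
    simp [beq] at this
  let eQ : SQ →* Cb := toCb.comp (Subgroup.inclusion hQC)
  let eH : SH →* Cb := toCb.comp (Subgroup.inclusion hHC)
  have hprod : Function.Injective (fun p : SQ × SH => eQ p.1 * eH p.2) := by
    rintro ⟨q, h⟩ ⟨q', h'⟩ e
    have e' : proj q.1 * proj h.1 = proj q'.1 * proj h'.1 := congrArg Subtype.val e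
    have hc : q'.1⁻¹ * q.1 * (h.1 * h'.1⁻¹) ∈ Subgroup.center (threeJ3 F ω) := proj_eq_one.1 (by
      calc proj (q'.1⁻¹ * q.1 * (h.1 * h'.1⁻¹)) = (proj q'.1)⁻¹ * (proj q.1 * proj h.1) * (proj h'.1)⁻¹ := by
            simp only [map_mul, map_inv, mul_assoc]
        _ = 1 := by rw [e']; group)
    obtain ⟨h1, h2⟩ := hmeet _ (mul_mem (inv_mem q'.2) q.2) _ (mul_mem h.2 (inv_mem h'.2)) hc
    exact Prod.ext (Subtype.ext (inv_mul_eq_one.1 h1).symm) (Subtype.ext (mul_inv_eq_one.1 h2))
  have hinjQ : Function.Injective eQ := fun a b e => congrArg Prod.fst (@hprod (a, 1) (b, 1) (by simp [e]))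
  have hinjH : Function.Injective eH := fun a b e => congrArg Prod.snd (@hprod (1, a) (1, b) (by simp [e]))
  have hcard : Nat.card Cb = 1920 := by
    refine le_antisymm hbar ?_
    have := Nat.card_le_card_of_injective _ hprod
    rwa [Nat.card_prod, hcQ, hcH] at this
  have hcQ' : Nat.card eQ.range = 32 := (Nat.card_congr (MonoidHom.ofInjective hinjQ).toEquiv).symm.trans hcQ
  have hcH' : Nat.card eH.range = 60 := (Nat.card_congr (MonoidHom.ofInjective hinjH).toEquiv).symm.trans hcH
  have hdis : Disjoint eQ.range eH.range := by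
    rw [Subgroup.disjoint_def]
    rintro _ ⟨q, rfl⟩ ⟨h, he⟩
    have := congrArg Prod.fst (@hprod (q, 1) (1, h) (by simp [he]))
    rw [show q = 1 from this, map_one]
  have hcompl : eQ.range.IsComplement' eH.range :=
    Subgroup.isComplement'_of_card_mul_and_disjoint (by rw [hcQ', hcH', hcard]) hdis
  -- normality
  have hnormH : ∀ h ∈ SH, ∀ q ∈ SQ, h * q * h⁻¹ ∈ SQ := by
    intro h hh
    obtain ⟨k, hk, rfl⟩ := (hSH h).1 hh
    refine Submonoid.closure_induction (motive := fun g _ => ∀ q ∈ SQ, g * q * g⁻¹ ∈ SQ) ?_ (by simp) ?_ (hMh k hk)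
    · rintro _ ⟨j, hj, rfl⟩ q hq
      obtain ⟨i, hi, rfl⟩ := (hSQ q).1 hq
      refine Submonoid.closure_induction (motive := fun q _ => fh (ix hG j) * q * (fh (ix hG j))⁻¹ ∈ SQ) ?_
        (by simp) (fun a b _ _ ha hb => ?_) (hMq i hi)
      · rintro _ ⟨l, hl, rfl⟩
        have := allFrom_spec (allFrom_spec runNorm j (Nat.zero_le j) (by omega)) l (Nat.zero_le l) (by omega)
        simp only [Bool.and_eq_true, Nat.blt_eq] at this
        rw [eq_of_beq2 hF hω (hfh _ (hGh j hj).1) (hfq _ (hGq l hl).1) (hfq _ (by omega)) (hfh _ (hGh j hj).1) this.2,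
          mul_inv_cancel_right]
        exact (hSQ _).2 ⟨_, by omega, rfl⟩
      · have := mul_mem ha hb
        simpa [mul_assoc] using this
    · intro a b _ _ ha hb q hq
      have := ha _ (hb q hq)
      simpa [mul_assoc] using this
  have hQn : eQ.range.Normal := by
    refine ⟨fun y hy g => ?_⟩
    obtain ⟨⟨a, b⟩, e⟩ := hcompl.2 g
    obtain ⟨q₁, hq₁⟩ := a.2
    obtain ⟨h₁, hh₁⟩ := b.2
    obtain ⟨q, rfl⟩ := hy
    have hb : eH h₁ * eQ q * (eH h₁)⁻¹ ∈ eQ.range :=
      ⟨⟨_, hnormH _ h₁.2 _ q.2⟩, Subtype.ext (by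
        show proj (h₁.1 * q.1 * h₁.1⁻¹) = proj h₁.1 * proj q.1 * (proj h₁.1)⁻¹
        rw [map_mul, map_mul, map_inv])⟩
    have := mul_mem (mul_mem a.2 hb) (inv_mem a.2)
    rw [hh₁] at this
    rw [← e]
    simpa [mul_assoc] using this
  -- the alternating group
  have hidx : ∀ h : SH, ∃ k, k < hC.length ∧ fh k = h.1 := fun h => (hSH h.1).1 h.2
  choose idx hidx hidxe using hidx
  have hact : ∀ h : SH, ∃ σ : Equiv.Perm (Fin 5), ∀ x : SH, gp (idx (h * x)) = σ * gp (idx x) := by
    intro h
    have := Submonoid.closure_induction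
      (motive := fun g _ => ∃ σ : Equiv.Perm (Fin 5), ∀ k < hC.length, ∀ l < hC.length, fh l = g * fh k → gp l = σ * gp k)
      ?_ ⟨1, fun k hk l hl e => by rw [one_mul] at e; rw [hhinj l hl k hk e, one_mul]⟩ ?_ (hMh _ (hidx h))
    · obtain ⟨σ, hσ⟩ := this
      exact ⟨σ, fun x => hσ _ (hidx x) _ (hidx _) (by rw [hidxe, hidxe, hidxe]; rfl)⟩
    · rintro _ ⟨j, hj, rfl⟩
      refine ⟨pgen j, fun k hk l hl e => ?_⟩
      obtain ⟨he1, he2⟩ := (hGh j hj).2.2 k hk
      rw [hhinj l hl _ he1 (e.trans he2)]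
      exact Equiv.ext fun x => gp_edge ⟨j, by omega⟩ ⟨k, by omega⟩ x
    · rintro a b - hb' ⟨σ, hσ⟩ ⟨τ, hτ⟩
      refine ⟨σ * τ, fun k hk l hl e => ?_⟩
      have hbS : b ∈ SH := by
        refine (Submonoid.closure_le (S := SH.toSubmonoid)).2 ?_ hb'
        rintro _ ⟨j, hj, rfl⟩
        exact (hGh j hj).2.1
      obtain ⟨m, hm, em⟩ := (hSH (b * fh k)).1 (mul_mem hbS ((hSH _).2 ⟨k, hk, rfl⟩))
      rw [hσ m hm l hl (by rw [em, e, mul_assoc]), hτ k hk m hm em, mul_assoc]
  have hgp1 : gp (idx 1) = 1 := by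
    rw [hhinj _ (hidx 1) 0 (by omega) ((hidxe 1).trans hfh0.symm), gp_zero]
  let ψ : SH →* alternatingGroup (Fin 5) := MonoidHom.codRestrict
    (MonoidHom.mk' (fun h => gp (idx h)) fun a b => by
      obtain ⟨σ, hσ⟩ := hact a
      have h1 := hσ 1
      rw [mul_one, hgp1, mul_one] at h1
      rw [hσ b, h1]) _
    fun h => Equiv.Perm.mem_alternatingGroup.2 (sign_gp _)
  have hψ : Function.Bijective ψ := by
    refine (Nat.bijective_iff_injective_and_card ψ).2 ⟨fun a b e => Subtype.ext ?_, ?_⟩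
    · have e' : gp (idx a) = gp (idx b) := congrArg Subtype.val e
      rw [← hidxe a, ← hidxe b]
      refine congrArg fh ((gp_nodup.getElem_inj_iff (hi := ?_) (hj := ?_)).1 ?_)
      · simp only [List.length_map, List.length_range]; have := hidx a; omega
      · simp only [List.length_map, List.length_range]; have := hidx b; omega
      · simp only [List.getElem_map, List.getElem_range, e']
    · rw [hcH, nat_card_alternatingGroup, Nat.card_fin]; rfl
  refine ⟨eQ.range, hQn, ?_, hcQ', ?_, ⟨_, hcompl⟩, ⟨?_⟩⟩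
  · refine LargeXS.isExtraspecial_congr (MonoidHom.ofInjective hinjQ) ?_
    have hq : ∀ x : SQ, ∃ i, i < 32 ∧ fq i = x.1 := fun x => by
      obtain ⟨i, hi, e⟩ := (hSQ x.1).1 x.2; exact ⟨i, by omega, e⟩
    have hfacts : ∀ i, i < 32 → (qm i i = 0 ∨ qm i i = tq) ∧ qm i tq = qm tq i ∧
        (i = 0 ∨ i = tq ∨ (ix qNC i < 32 ∧ qm i (ix qNC i) ≠ qm (ix qNC i) i)) ∧
        ∀ j, j < 32 → qm i j = qm j i ∨ qm i j = qm tq (qm j i) := fun i hi => by
      have := allFrom_spec runQfacts i (Nat.zero_le i) (by omega)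
      simp only [Bool.and_eq_true, Bool.or_eq_true, Nat.beq_eq, Nat.blt_eq, Bool.not_eq_true',
        ← Bool.not_eq_true] at this
      obtain ⟨⟨⟨h1, h2⟩, h3⟩, h4⟩ := this
      refine ⟨h1, h2, ?_, fun j hj => ?_⟩
      · rcases h3 with (h3 | h3) | h3
        · exact Or.inl h3
        · exact Or.inr (Or.inl h3)
        · exact Or.inr (Or.inr h3)
      · have := allFrom_spec h4 j (Nat.zero_le j) (by omega)
        simpa using this
    refine LargeXS.isExtraspecial_of (IsPGroup.of_card (n := 5) hcQ) (c := ⟨t, (hSQ t).2 ⟨tq, by omega, rfl⟩⟩)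
      (fun e => ht1 (congrArg Subtype.val e)) ?_ ?_ ?_ ?_ ?_
    · intro x y
      obtain ⟨i, hi, hx⟩ := hq x
      obtain ⟨j, hj, hy⟩ := hq y
      rcases (hfacts i hi).2.2.2 j hj with e | e
      · left
        have e' : x * y = y * x := Subtype.ext (by
          rw [Subgroup.coe_mul, Subgroup.coe_mul, ← hx, ← hy, (hqmul i hi j hj).2, (hqmul j hj i hi).2, e])
        rw [e', mul_inv_cancel_right, mul_inv_cancel]
      · right
        have e' : x * y = ⟨t, (hSQ t).2 ⟨tq, by omega, rfl⟩⟩ * (y * x) := Subtype.ext (by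
          rw [Subgroup.coe_mul, Subgroup.coe_mul, Subgroup.coe_mul, ← hx, ← hy]
          show fq i * fq j = fq tq * (fq j * fq i)
          rw [(hqmul i hi j hj).2, (hqmul j hj i hi).2, (hqmul tq htq _ (hqmul j hj i hi).1).2, e])
        rw [e']; group
    · intro x
      obtain ⟨i, hi, hx⟩ := hq x
      rcases (hfacts i hi).1 with e | e
      · left; exact Subtype.ext (by rw [Subgroup.coe_mul, Subgroup.coe_one, ← hx, (hqmul i hi i hi).2, e, hfq0])
      · right; exact Subtype.ext (by rw [Subgroup.coe_mul, ← hx, (hqmul i hi i hi).2, e])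
    · intro x hx'
      obtain ⟨i, hi, hx⟩ := hq x
      rcases (hfacts i hi).2.2.1 with rfl | rfl | ⟨hj, hne⟩
      · left; exact Subtype.ext (by rw [← hx, hfq0]; rfl)
      · right; exact Subtype.ext hx.symm
      · exfalso
        have h' := congrArg Subtype.val (hx' ⟨fq (ix qNC i), (hSQ _).2 ⟨_, by omega, rfl⟩⟩)
        rw [Subgroup.coe_mul, Subgroup.coe_mul, ← hx, (hqmul _ hj i hi).2, (hqmul i hi _ hj).2] at h'
        exact hne (hqinj _ (by have := (hqmul i hi _ hj).1; omega) _ (by have := (hqmul _ hj i hi).1; omega) h'.symm)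
    · intro y
      obtain ⟨i, hi, hy⟩ := hq y
      refine Subtype.ext ?_
      rw [Subgroup.coe_mul, Subgroup.coe_mul, ← hy]
      show fq i * fq tq = fq tq * fq i
      rw [(hqmul i hi tq htq).2, (hqmul tq htq i hi).2, (hfacts i hi).2.1]
    · by_contra hno
      push Not at hno
      have hlt : ∀ x : SQ, x = 1 ∨ x = ⟨t, (hSQ t).2 ⟨tq, by omega, rfl⟩⟩ := fun x => or_iff_not_imp_left.2 (hno x)
      have hsub : (Set.univ : Set SQ) ⊆ {1, ⟨t, (hSQ t).2 ⟨tq, by omega, rfl⟩⟩} := fun x _ => hlt x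
      have := (Set.ncard_le_ncard hsub).trans (Set.ncard_insert_le _ _)
      rw [Set.ncard_univ, Set.ncard_singleton, hcQ] at this
      omega
  · intro E hE
    refine card_elementary_le E fun x hx y hy z hz hx1 hy1 hz1 hyx hzx hzy => ?_
    have hpos : ∀ u : eQ.range, ∃ i, i < 32 ∧ ∃ q : SQ, q.1 = fq i ∧ eQ q = u.1 := fun u => by
      obtain ⟨q, hq⟩ := u.2
      obtain ⟨i, hi, e⟩ := (hSQ q.1).1 q.2
      exact ⟨i, by omega, q, e.symm, hq⟩
    choose pos hpos hq hqe hqu using hpos
    have hposinj : Function.Injective pos := fun u v e => Subtype.ext (by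
      rw [← hqu u, ← hqu v, show hq u = hq v from Subtype.ext (by rw [hqe, hqe, e])])
    have hmul : ∀ u v, pos (u * v) = qm (pos u) (pos v) := fun u v => by
      have he : hq (u * v) = hq u * hq v := hinjQ (by rw [map_mul, hqu, hqu, hqu]; rfl)
      have := congrArg Subtype.val he
      rw [Subgroup.coe_mul, hqe, hqe, hqe, (hqmul _ (hpos u) _ (hpos v)).2] at this
      exact hqinj _ (by have := hpos (u * v); omega) _ (by have := (hqmul _ (hpos u) _ (hpos v)).1; omega) this
    have h0 : pos 1 = 0 := by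
      have he : hq 1 = 1 := hinjQ (by rw [hqu, map_one]; rfl)
      have := congrArg Subtype.val he
      rw [hqe, Subgroup.coe_one, ← hfq0] at this
      exact hqinj _ (by have := hpos 1; omega) _ (by omega) this
    have hne : ∀ u, u ≠ 1 → pos u ≠ 0 := fun u hu e => hu (hposinj (e.trans h0.symm))
    have hsq : ∀ u ∈ E, qm (pos u) (pos u) = 0 := fun u hu => by rw [← hmul, ← pow_two, hE.2 u hu, h0]
    have hcm : ∀ u ∈ E, ∀ v ∈ E, qm (pos u) (pos v) = qm (pos v) (pos u) := fun u hu v hv => by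
      rw [← hmul, ← hmul]
      haveI := hE.1
      exact congrArg pos (congrArg Subtype.val (mul_comm' (⟨u, hu⟩ : E) ⟨v, hv⟩))
    refine hposinj ?_
    rw [hmul]
    have h := allFrom_spec runQelem (pos x) (Nat.zero_le _) (by have := hpos x; omega)
    simp only [Bool.or_eq_true, Bool.not_eq_true', ← Bool.not_eq_true, Nat.beq_eq, hne x hx1, hsq x hx,
      not_true_eq_false, false_or] at h
    have h := allFrom_spec h (pos y) (Nat.zero_le _) (by have := hpos y; omega)
    simp only [Bool.or_eq_true, Bool.not_eq_true', ← Bool.not_eq_true, Nat.beq_eq, hne y hy1, hsq y hy,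
      hposinj.ne hyx, hcm x hx y hy, not_true_eq_false, false_or] at h
    have h := allFrom_spec h (pos z) (Nat.zero_le _) (by have := hpos z; omega)
    simp only [Bool.or_eq_true, Bool.not_eq_true', ← Bool.not_eq_true, Nat.beq_eq, hne z hz1, hsq z hz,
      hposinj.ne hzx, hposinj.ne hzy, hcm x hx z hz, hcm y hy z hz, not_true_eq_false, false_or] at h
    rw [h, hcm y hy x hx]
  · have := hQn
    exact (hcompl.symm.QuotientMulEquiv).trans ((MonoidHom.ofInjective hinjH).symm.trans (MulEquiv.ofBijective ψ hψ))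

end CfsgLib.J3Invol
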